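import Mathlib
import Cfsg.Prelude.Def_BaumannBlocks
import Cfsg.Agent.Coprime.Sylow

/-!
Subgroups with `|R| |C(R)|` or `|R| |Z(R)|` maximal.
-/

set_option autoImplicit false
set_option linter.style.haveILetI false
set_option linter.unusedSectionVars false

namespace Cfsg.Lib.CD

open Subgroup
open scoped Pointwise

variable {P : Type*} [Group P] [Finite P]

/-- the measure -/
noncomputable def meas (R : Subgroup P) : ℕ := Nat.card R * Nat.card ↥(centralizer (R : Set P))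

theorem card_center (R : Subgroup P) : Nat.card (Subgroup.center R) = Nat.card ↥(R ⊓ centralizer (R : Set P)) := by
  refine Nat.card_congr
    { toFun := fun z => ⟨(z : R), (z : R).2, mem_centralizer_iff.mpr fun r hr =>
        congrArg Subtype.val (mem_center_iff.mp z.2 ⟨r, hr⟩)⟩
      invFun := fun z => ⟨⟨z, z.2.1⟩, mem_center_iff.mpr fun r => Subtype.ext (mem_centralizer_iff.mp z.2.2 r r.2)⟩
      left_inv := fun z => rfl
      right_inv := fun z => rfl }

theorem meas_le (R : Subgroup P) : meas R ≤ Cfsg.maxCentralizerProduct P :=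
  le_csSup ((Set.finite_range meas).subset (by rintro k ⟨R, rfl⟩; exact ⟨R, rfl⟩)).bddAbove ⟨R, rfl⟩

theorem center_prod_le (R : Subgroup P) :
    Nat.card R * Nat.card ↥(R ⊓ centralizer (R : Set P)) ≤ Cfsg.maxCentralProduct P :=
  le_csSup ((Set.finite_range fun R : Subgroup P => Nat.card R * Nat.card (Subgroup.center R)).subset
    (by rintro k ⟨R, rfl⟩; exact ⟨R, rfl⟩)).bddAbove ⟨R, by rw [card_center]⟩

theorem large_iff {R : Subgroup P} : Cfsg.IsCentralizerLarge R ↔ Cfsg.maxCentralizerProduct P ≤ meas R :=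
  ⟨fun h => h.ge, fun h => le_antisymm (meas_le R) h⟩

theorem exists_large : ∃ R : Subgroup P, Cfsg.IsCentralizerLarge R := by
  obtain ⟨R, -, hR⟩ := Set.exists_max_image (Set.univ : Set (Subgroup P)) meas (Set.toFinite _) ⟨⊥, trivial⟩
  exact ⟨R, large_iff.mpr (csSup_le ⟨_, ⊥, rfl⟩ (by rintro k ⟨S, rfl⟩; exact hR S trivial))⟩

theorem card_mul_le (H K : Subgroup P) :
    Nat.card H * Nat.card K ≤ Nat.card ↥(H ⊔ K : Subgroup P) * Nat.card ↥(H ⊓ K) := by
  have h1 : K.relIndex H ≤ K.relIndex (H ⊔ K) := relIndex_le_of_le_right le_sup_left (fun h => by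
    have := relIndex_mul_relIndex ⊥ K (H ⊔ K) bot_le le_sup_right
    rw [h, mul_zero, relIndex_bot_left] at this
    exact Nat.card_pos.ne this)
  have e1 : Nat.card ↥(H ⊓ K) * K.relIndex H = Nat.card H := by
    rw [← inf_relIndex_left, ← relIndex_bot_left, ← relIndex_bot_left, relIndex_mul_relIndex _ _ _ bot_le inf_le_left]
  have e2 : Nat.card K * K.relIndex (H ⊔ K) = Nat.card ↥(H ⊔ K : Subgroup P) := by
    rw [← relIndex_bot_left, ← relIndex_bot_left, relIndex_mul_relIndex _ _ _ bot_le le_sup_right]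
  calc Nat.card H * Nat.card K = (Nat.card ↥(H ⊓ K) * Nat.card K) * K.relIndex H := by rw [← e1]; ring
    _ ≤ (Nat.card ↥(H ⊓ K) * Nat.card K) * K.relIndex (H ⊔ K) := Nat.mul_le_mul_left _ h1
    _ = _ := by rw [← e2]; ring

theorem coe_sup_of_card {H K : Subgroup P}
    (h : Nat.card ↥(H ⊔ K : Subgroup P) * Nat.card ↥(H ⊓ K) ≤ Nat.card H * Nat.card K) :
    ((H ⊔ K : Subgroup P) : Set P) = (H : Set P) * (K : Set P) := by
  refine Set.Subset.antisymm ?_ ?_
  · let f : H ⧸ K.subgroupOf H → ↥(H ⊔ K : Subgroup P) ⧸ K.subgroupOf (H ⊔ K) :=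
      Quotient.map' (Subgroup.inclusion le_sup_left) (fun a b hab => by
        rw [QuotientGroup.leftRel_apply] at hab ⊢
        exact hab)
    have hf : Function.Injective f := by
      intro a b
      induction a using QuotientGroup.induction_on with | H a => ?_
      induction b using QuotientGroup.induction_on with | H b => ?_
      intro hab
      exact QuotientGroup.eq.mpr (QuotientGroup.eq.mp (show (QuotientGroup.mk (Subgroup.inclusion le_sup_left a) :
        ↥(H ⊔ K : Subgroup P) ⧸ K.subgroupOf (H ⊔ K)) = QuotientGroup.mk (Subgroup.inclusion le_sup_left b) from hab) :)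
    have hcard : Nat.card (↥(H ⊔ K : Subgroup P) ⧸ K.subgroupOf (H ⊔ K)) ≤ Nat.card (H ⧸ K.subgroupOf H) := by
      show K.relIndex (H ⊔ K) ≤ K.relIndex H
      have e1 : Nat.card ↥(H ⊓ K) * K.relIndex H = Nat.card H := by
        rw [← inf_relIndex_left, ← relIndex_bot_left, ← relIndex_bot_left, relIndex_mul_relIndex _ _ _ bot_le inf_le_left]
      have e2 : Nat.card K * K.relIndex (H ⊔ K) = Nat.card ↥(H ⊔ K : Subgroup P) := by
        rw [← relIndex_bot_left, ← relIndex_bot_left, relIndex_mul_relIndex _ _ _ bot_le le_sup_right]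
      rw [← e1, ← e2] at h
      refine Nat.le_of_mul_le_mul_left (c := Nat.card K * Nat.card ↥(H ⊓ K)) ?_ (Nat.mul_pos (Nat.card_pos (α := K)) (Nat.card_pos (α := ↥(H ⊓ K))))
      linarith [h]
    have hsurj : Function.Surjective f := ((Nat.bijective_iff_injective_and_card f).mpr
      ⟨hf, le_antisymm (Nat.card_le_card_of_injective f hf) hcard⟩).2
    intro x hx
    obtain ⟨q, hq⟩ := hsurj (QuotientGroup.mk ⟨x, hx⟩)
    induction q using QuotientGroup.induction_on with | H q => ?_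
    have hq' : (QuotientGroup.mk (Subgroup.inclusion le_sup_left q) :
      ↥(H ⊔ K : Subgroup P) ⧸ K.subgroupOf (H ⊔ K)) = QuotientGroup.mk ⟨x, hx⟩ := hq
    have hk' := QuotientGroup.eq.mp hq'
    have hk : (q : P)⁻¹ * x ∈ K := hk'
    exact ⟨q, q.2, _, hk, mul_inv_cancel_left _ _⟩
  · rintro _ ⟨a, ha, b, hb, rfl⟩
    exact mul_mem (mem_sup_left ha) (mem_sup_right hb)

theorem centralizer_sup (H K : Subgroup P) :
    centralizer ((H ⊔ K : Subgroup P) : Set P) = centralizer (H : Set P) ⊓ centralizer (K : Set P) := by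
  refine le_antisymm (le_inf (centralizer_le (SetLike.coe_subset_coe.mpr le_sup_left)) (centralizer_le (SetLike.coe_subset_coe.mpr le_sup_right))) fun x hx => ?_
  rw [sup_eq_closure, centralizer_closure]
  exact mem_centralizer_iff.mpr fun y hy => hy.elim (mem_centralizer_iff.mp hx.1 y) (mem_centralizer_iff.mp hx.2 y)

theorem large_sup_inf {Q R : Subgroup P} (hQ : Cfsg.IsCentralizerLarge Q) (hR : Cfsg.IsCentralizerLarge R) :
    ((Q ⊔ R : Subgroup P) : Set P) = (Q : Set P) * (R : Set P) ∧ Cfsg.IsCentralizerLarge (Q ⊔ R) ∧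
      Cfsg.IsCentralizerLarge (Q ⊓ R) ∧
      ((centralizer (Q : Set P) ⊔ centralizer (R : Set P) : Subgroup P) : Set P) =
        (centralizer (Q : Set P) : Set P) * (centralizer (R : Set P) : Set P) ∧
      centralizer ((Q ⊓ R : Subgroup P) : Set P) = centralizer (Q : Set P) ⊔ centralizer (R : Set P) := by
  set A := centralizer (Q : Set P)
  set B := centralizer (R : Set P)
  have hAB : A ⊔ B ≤ centralizer ((Q ⊓ R : Subgroup P) : Set P) :=
    sup_le (centralizer_le inf_le_left) (centralizer_le inf_le_right)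
  have hc : Nat.card ↥(A ⊔ B : Subgroup P) ≤ Nat.card ↥(centralizer ((Q ⊓ R : Subgroup P) : Set P)) := card_le_of_le hAB
  have h1 := card_mul_le Q R
  have h2 := card_mul_le A B
  have hm1 := meas_le (Q ⊔ R)
  have hm2 := meas_le (Q ⊓ R)
  have e : meas (Q ⊔ R) = Nat.card ↥(Q ⊔ R : Subgroup P) * Nat.card ↥(A ⊓ B) := by
    rw [meas, centralizer_sup]
  have eQ : Nat.card Q * Nat.card A = Cfsg.maxCentralizerProduct P := hQ
  have eR : Nat.card R * Nat.card B = Cfsg.maxCentralizerProduct P := hR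
  set m := Cfsg.maxCentralizerProduct P
  set J := Nat.card ↥(Q ⊔ R : Subgroup P) with hJ
  set I := Nat.card ↥(Q ⊓ R)
  set S := Nat.card ↥(A ⊔ B : Subgroup P)
  set T := Nat.card ↥(A ⊓ B)
  set C := Nat.card ↥(centralizer ((Q ⊓ R : Subgroup P) : Set P))
  have e' : meas (Q ⊓ R) = I * C := rfl
  rw [e] at hm1
  rw [e'] at hm2
  have pJ : 0 < J := Nat.card_pos
  have pI : 0 < I := Nat.card_pos
  have pT : 0 < T := Nat.card_pos
  have pC : 0 < C := Nat.card_pos
  have pm : 0 < m := eQ ▸ Nat.mul_pos Nat.card_pos Nat.card_pos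
  have key : m * m ≤ J * I * (S * T) := by
    calc m * m = (Nat.card Q * Nat.card R) * (Nat.card A * Nat.card B) := by rw [← eQ]; nth_rw 2 [eQ]; rw [← eR]; ring
      _ ≤ _ := Nat.mul_le_mul h1 h2
  have key2 : J * I * (S * T) ≤ (J * T) * (I * C) := by
    calc J * I * (S * T) ≤ J * I * (C * T) := Nat.mul_le_mul_left _ (Nat.mul_le_mul_right _ hc)
      _ = _ := by ring
  have hJT : J * T = m := le_antisymm hm1 (Nat.le_of_mul_le_mul_right
    ((key.trans key2).trans (Nat.mul_le_mul_left _ hm2)) pm)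
  have hIC : I * C = m := le_antisymm hm2 (Nat.le_of_mul_le_mul_left
    ((key.trans key2).trans (Nat.mul_le_mul_right _ hm1)) pm)
  have htot : J * I * (S * T) = m * m := le_antisymm (key2.trans (by rw [hJT, hIC])) key
  have hprod : (Nat.card Q * Nat.card R) * (Nat.card A * Nat.card B) = m * m := by
    rw [← eQ]; nth_rw 2 [eQ]; rw [← eR]; ring
  have hSC : S = C := le_antisymm hc (Nat.le_of_mul_le_mul_left (c := J * I * T) (by
    calc J * I * T * C = (J * T) * (I * C) := by ring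
      _ = m * m := by rw [hJT, hIC]
      _ = J * I * (S * T) := htot.symm
      _ = J * I * T * S := by ring
      _ ≤ _ := le_rfl) (by positivity))
  have hJI : J * I ≤ Nat.card Q * Nat.card R := Nat.le_of_mul_le_mul_right (c := S * T) (by
    rw [htot, ← hprod]; exact Nat.mul_le_mul_left _ h2) (by rw [hSC]; positivity)
  have hST : S * T ≤ Nat.card A * Nat.card B := Nat.le_of_mul_le_mul_left (c := J * I) (by
    rw [htot, ← hprod]; exact Nat.mul_le_mul_right _ h1) (by positivity)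
  exact ⟨coe_sup_of_card hJI, large_iff.mpr (by rw [e]; exact hJT.ge), large_iff.mpr (hIC.ge),
    coe_sup_of_card hST, (eq_of_le_of_card_ge hAB hSC.ge).symm⟩

theorem large_centralizer {Q : Subgroup P} (hQ : Cfsg.IsCentralizerLarge Q) :
    Cfsg.IsCentralizerLarge (centralizer (Q : Set P)) ∧
      Q = centralizer ((centralizer (Q : Set P) : Subgroup P) : Set P) := by
  set A := centralizer (Q : Set P)
  have hle : Q ≤ centralizer (A : Set P) := le_centralizer_iff.mp le_rfl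
  have h1 : meas A ≤ Nat.card Q * Nat.card A := (meas_le A).trans hQ.ge
  have h2 : Nat.card ↥(centralizer (A : Set P)) ≤ Nat.card Q := by
    refine Nat.le_of_mul_le_mul_left (c := Nat.card A) ?_ (Nat.card_pos (α := A))
    rw [mul_comm (Nat.card A) (Nat.card Q)]
    exact h1
  refine ⟨large_iff.mpr ?_, eq_of_le_of_card_ge hle h2⟩
  rw [← hQ, mul_comm]
  exact Nat.mul_le_mul_left _ (card_le_of_le hle)

theorem max_eq : Cfsg.maxCentralProduct P = Cfsg.maxCentralizerProduct P := by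
  refine le_antisymm (csSup_le ⟨_, ⊥, rfl⟩ ?_) ?_
  · rintro k ⟨R, rfl⟩
    rw [card_center]
    exact (Nat.mul_le_mul_left _ (card_le_of_le inf_le_right)).trans (meas_le R)
  · obtain ⟨Q, hQ⟩ := exists_large (P := P)
    obtain ⟨hA, hcc⟩ := large_centralizer hQ
    obtain ⟨-, hR, -⟩ := large_sup_inf hQ hA
    refine le_trans ?_ (center_prod_le (Q ⊔ centralizer (Q : Set P)))
    rw [inf_eq_right.mpr]
    · exact hR.ge
    · rw [centralizer_sup]
      exact inf_le_left.trans le_sup_right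

theorem cl_iff {Q : Subgroup P} :
    Cfsg.IsCentrallyLarge Q ↔ Cfsg.IsCentralizerLarge Q ∧ centralizer (Q : Set P) ≤ Q := by
  rw [Cfsg.IsCentrallyLarge, card_center, max_eq]
  constructor
  · intro h
    have h1 : Nat.card Q * Nat.card ↥(centralizer (Q : Set P)) ≤ Nat.card Q * Nat.card ↥(Q ⊓ centralizer (Q : Set P)) :=
      h ▸ meas_le Q
    have h2 : Q ⊓ centralizer (Q : Set P) = centralizer (Q : Set P) :=
      eq_of_le_of_card_ge inf_le_right (Nat.le_of_mul_le_mul_left h1 Nat.card_pos)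
    rw [h2] at h
    exact ⟨h, h2 ▸ inf_le_left⟩
  · rintro ⟨h, hle⟩
    rw [inf_eq_right.mpr hle]
    exact h

theorem cl_sup {Q R : Subgroup P} (hQ : Cfsg.IsCentrallyLarge Q) (hR : Cfsg.IsCentrallyLarge R) :
    ((Q ⊔ R : Subgroup P) : Set P) = (Q : Set P) * (R : Set P) ∧ Cfsg.IsCentrallyLarge (Q ⊔ R) := by
  obtain ⟨hQl, hQc⟩ := cl_iff.mp hQ
  obtain ⟨h1, h2, -⟩ := large_sup_inf hQl (cl_iff.mp hR).1
  exact ⟨h1, cl_iff.mpr ⟨h2, ((centralizer_le (SetLike.coe_subset_coe.mpr le_sup_left)).trans hQc).trans le_sup_left⟩⟩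

theorem exists_cl : ∃ R : Subgroup P, Cfsg.IsCentrallyLarge R := by
  obtain ⟨R, -, hR⟩ := Set.exists_max_image (Set.univ : Set (Subgroup P))
    (fun R => Nat.card R * Nat.card (Subgroup.center R)) (Set.toFinite _) ⟨⊥, trivial⟩
  refine ⟨R, le_antisymm ?_ (csSup_le ⟨_, ⊥, rfl⟩ (by rintro k ⟨S, rfl⟩; exact hR S trivial))⟩
  rw [card_center]
  exact center_prod_le R

theorem exists_mcl {Q : Subgroup P} (hQ : Cfsg.IsCentrallyLarge Q) :
    ∃ R, R ≤ Q ∧ Cfsg.IsMinimalCentrallyLarge R := by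
  obtain ⟨R, ⟨hR, hRQ⟩, hmin⟩ := Set.exists_min_image {R : Subgroup P | Cfsg.IsCentrallyLarge R ∧ R ≤ Q}
    (fun R => Nat.card R) (Set.toFinite _) ⟨Q, hQ, le_rfl⟩
  exact ⟨R, hRQ, hR, fun R' h h' => eq_of_le_of_card_ge h (hmin R' ⟨h', h.trans hRQ⟩)⟩

theorem cl_sSup {𝒳 : Set (Subgroup P)} (hne : 𝒳.Nonempty) (h : ∀ X ∈ 𝒳, Cfsg.IsCentrallyLarge X) :
    Cfsg.IsCentrallyLarge (sSup 𝒳) := by
  obtain ⟨X₀, hX₀⟩ := hne
  obtain ⟨R, ⟨hR, hRle⟩, hmax⟩ := Set.exists_max_image {R : Subgroup P | Cfsg.IsCentrallyLarge R ∧ R ≤ sSup 𝒳}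
    (fun R => Nat.card R) (Set.toFinite _) ⟨X₀, h X₀ hX₀, le_sSup hX₀⟩
  have : sSup 𝒳 ≤ R := sSup_le fun X hX => by
    have h1 := hmax (R ⊔ X) ⟨(cl_sup hR (h X hX)).2, sup_le hRle (le_sSup hX)⟩
    exact le_sup_right.trans (eq_of_le_of_card_ge le_sup_left h1).ge
  rwa [← le_antisymm hRle this]

/-- centralizers of abelian subgroups of largest order -/
theorem maxAb_centralizer {A : Subgroup P} (hA : A ∈ Cfsg.maxAbelianSubgroups P) :
    centralizer (A : Set P) = A := by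
  haveI := hA.1
  refine le_antisymm (fun x hx => ?_) (fun a ha => mem_centralizer_iff.mpr fun b hb =>
    congrArg Subtype.val (mul_comm' (⟨b, hb⟩ : A) ⟨a, ha⟩))
  have hc : IsMulCommutative ↥(A ⊔ zpowers x : Subgroup P) := by
    rw [← closure_eq A, zpowers_eq_closure, ← Subgroup.closure_union]
    refine Subgroup.isMulCommutative_closure ?_
    rintro u (hu | rfl) v (hv | rfl)
    · exact congrArg Subtype.val (mul_comm' (⟨u, hu⟩ : A) ⟨v, hv⟩)
    · exact mem_centralizer_iff.mp hx u hu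
    · exact (mem_centralizer_iff.mp hx v hv).symm
    · rfl
  exact (eq_of_le_of_card_ge (le_sup_left : A ≤ A ⊔ zpowers x) (hA.2 _ hc)).ge (mem_sup_right (mem_zpowers x))

theorem cl_sup_maxAb {Q A : Subgroup P} (hQ : Cfsg.IsCentrallyLarge Q) (hA : A ∈ Cfsg.maxAbelianSubgroups P) :
    ((Q ⊔ A : Subgroup P) : Set P) = (Q : Set P) * (A : Set P) ∧ Cfsg.IsCentrallyLarge (Q ⊔ A) ∧
      (Q ⊔ A) ⊓ centralizer ((Q ⊓ A : Subgroup P) : Set P) = (Q ⊓ centralizer (Q : Set P)) ⊔ A ∧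
      (((Q ⊓ centralizer (Q : Set P)) ⊔ A : Subgroup P) : Set P) =
        ((Q ⊓ centralizer (Q : Set P)) : Set P) * (A : Set P) := by
  haveI := hA.1
  obtain ⟨hQl, hQc⟩ := cl_iff.mp hQ
  set Z := centralizer (Q : Set P)
  have hcA := maxAb_centralizer hA
  set D := Q ⊓ A
  set W := Z ⊔ D
  have hWc : IsMulCommutative ↥W := by
    rw [show W = closure ((Z : Set P) ∪ (D : Set P)) from sup_eq_closure Z D]
    refine Subgroup.isMulCommutative_closure ?_
    rintro u (hu | hu) v (hv | hv)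
    · exact (mem_centralizer_iff.mp hu v (hQc hv)).symm
    · exact (mem_centralizer_iff.mp hu v hv.1).symm
    · exact mem_centralizer_iff.mp hv u hu.1
    · exact congrArg Subtype.val (mul_comm' (⟨u, hu.2⟩ : A) ⟨v, hv.2⟩)
  have hWA := hA.2 W hWc
  have hZA : Z ⊓ A = Z ⊓ D := le_antisymm (fun x hx => ⟨hx.1, hQc hx.1, hx.2⟩) (inf_le_inf_left _ inf_le_right)
  have h1 := card_mul_le Q A
  have h2 := card_mul_le Z D
  have hR := meas_le (Q ⊔ A)
  have eR : meas (Q ⊔ A) = Nat.card ↥(Q ⊔ A : Subgroup P) * Nat.card ↥(Z ⊓ D) := by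
    rw [meas, centralizer_sup, hcA, hZA]
  rw [eR] at hR
  have eQ : Nat.card Q * Nat.card Z = Cfsg.maxCentralizerProduct P := hQl
  set J := Nat.card ↥(Q ⊔ A : Subgroup P)
  set I := Nat.card ↥(Z ⊓ D)
  set d := Nat.card D
  -- `|Q| |Z| d ≤ J d I`
  have k1 : Nat.card Q * Nat.card Z * d ≤ J * d * I := by
    calc Nat.card Q * Nat.card Z * d = Nat.card Q * (Nat.card Z * Nat.card D) := mul_assoc _ _ _
      _ ≤ Nat.card Q * (Nat.card ↥W * I) := Nat.mul_le_mul_left _ h2
      _ ≤ Nat.card Q * (Nat.card A * I) := Nat.mul_le_mul_left _ (Nat.mul_le_mul_right _ hWA)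
      _ = Nat.card Q * Nat.card A * I := (mul_assoc _ _ _).symm
      _ ≤ J * d * I := Nat.mul_le_mul_right _ h1
  have k2 : J * d * I ≤ Nat.card Q * Nat.card Z * d := by
    rw [eQ, mul_assoc J, mul_comm d, ← mul_assoc]
    exact Nat.mul_le_mul_right _ hR
  have hlarge : Cfsg.IsCentralizerLarge (Q ⊔ A) := large_iff.mpr (by
    rw [eR, ← eQ]
    refine Nat.le_of_mul_le_mul_right (c := d) ?_ Nat.card_pos
    calc _ ≤ J * d * I := k1
      _ = J * I * d := by ring)
  have hJ : J * d ≤ Nat.card Q * Nat.card A := Nat.le_of_mul_le_mul_right (c := I) (by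
    calc J * d * I ≤ Nat.card Q * Nat.card Z * d := k2
      _ = Nat.card Q * (Nat.card Z * Nat.card D) := mul_assoc _ _ _
      _ ≤ Nat.card Q * (Nat.card ↥W * I) := Nat.mul_le_mul_left _ h2
      _ ≤ Nat.card Q * (Nat.card A * I) := Nat.mul_le_mul_left _ (Nat.mul_le_mul_right _ hWA)
      _ = _ := (mul_assoc _ _ _).symm) Nat.card_pos
  have hW : Nat.card A ≤ Nat.card ↥W := Nat.le_of_mul_le_mul_right (c := I) (Nat.le_of_mul_le_mul_left (c := Nat.card Q) (by
    calc Nat.card Q * (Nat.card A * I) = Nat.card Q * Nat.card A * I := (mul_assoc _ _ _).symm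
      _ ≤ J * d * I := Nat.mul_le_mul_right _ h1
      _ ≤ Nat.card Q * Nat.card Z * d := k2
      _ = Nat.card Q * (Nat.card Z * Nat.card D) := mul_assoc _ _ _
      _ ≤ _ := Nat.mul_le_mul_left _ h2) Nat.card_pos) Nat.card_pos
  have hWmax : W ∈ Cfsg.maxAbelianSubgroups P := ⟨hWc, fun B hB => (hA.2 B hB).trans hW⟩
  have hset := coe_sup_of_card hJ
  have hZ : Q ⊓ Z = Z := inf_eq_right.mpr hQc
  have hdec : ∀ x ∈ (Q ⊔ A) ⊓ centralizer (D : Set P), ∃ z ∈ Z, ∃ a ∈ A, z * a = x := by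
    rintro x ⟨hx, hxD⟩
    obtain ⟨q, hq, a, ha, rfl⟩ : x ∈ (Q : Set P) * (A : Set P) := hset ▸ hx
    have hqD : q ∈ centralizer (D : Set P) := by
      have h := (centralizer (D : Set P)).mul_mem hxD ((centralizer (D : Set P)).inv_mem
        (centralizer_le (SetLike.coe_subset_coe.mpr (inf_le_right : D ≤ A)) (hcA.ge ha)))
      rwa [mul_inv_cancel_right] at h
    have hqW : q ∈ W := by
      rw [← maxAb_centralizer hWmax, centralizer_sup]
      exact ⟨mem_centralizer_iff.mpr fun z hz => (mem_centralizer_iff.mp hz q hq).symm, hqD⟩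
    have hset2 : (W : Set P) = (Z : Set P) * (D : Set P) := coe_sup_of_card (by
      refine le_trans ?_ (le_of_eq rfl)
      refine Nat.le_of_mul_le_mul_left (c := Nat.card Q) ?_ Nat.card_pos
      calc Nat.card Q * (Nat.card ↥W * I) ≤ Nat.card Q * (Nat.card A * I) :=
            Nat.mul_le_mul_left _ (Nat.mul_le_mul_right _ hWA)
        _ = Nat.card Q * Nat.card A * I := (mul_assoc _ _ _).symm
        _ ≤ J * d * I := Nat.mul_le_mul_right _ h1
        _ ≤ Nat.card Q * Nat.card Z * d := k2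
        _ = _ := mul_assoc _ _ _)
    obtain ⟨z, hz, d', hd, rfl⟩ : q ∈ (Z : Set P) * (D : Set P) := hset2 ▸ hqW
    exact ⟨z, hz, d' * a, mul_mem hd.2 ha, (mul_assoc _ _ _).symm⟩
  have hle : Z ⊔ A ≤ (Q ⊔ A) ⊓ centralizer (D : Set P) :=
    sup_le (le_inf (hQc.trans le_sup_left) (centralizer_le inf_le_left))
      (le_inf le_sup_right (hcA.ge.trans (centralizer_le inf_le_right)))
  refine ⟨hset, cl_iff.mpr ⟨hlarge, ((centralizer_le (SetLike.coe_subset_coe.mpr le_sup_left)).trans hQc).trans le_sup_left⟩, ?_, ?_⟩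
  · rw [hZ]
    refine le_antisymm (fun x hx => ?_) hle
    obtain ⟨z, hz, a, ha, rfl⟩ := hdec x hx
    exact mul_mem (mem_sup_left hz) (mem_sup_right ha)
  · show _ = ((Q ⊓ Z : Subgroup P) : Set P) * (A : Set P)
    rw [hZ]
    refine Set.Subset.antisymm (fun x hx => ?_) ?_
    · obtain ⟨z, hz, a, ha, rfl⟩ := hdec x (hle hx)
      exact ⟨z, hz, a, ha, rfl⟩
    · rintro _ ⟨z, hz, a, ha, rfl⟩
      exact mul_mem (mem_sup_left hz) (mem_sup_right ha)

theorem centralizer_zj_le {Q : Subgroup P} (hQ : Cfsg.IsCentrallyLarge Q) :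
    centralizer ((Cfsg.thompsonSubgroupA P ⊓ centralizer (Cfsg.thompsonSubgroupA P : Set P) : Subgroup P) : Set P) ≤
      Q ⊔ Cfsg.thompsonSubgroupA P ∧ Cfsg.IsCentrallyLarge (Q ⊔ Cfsg.thompsonSubgroupA P) := by
  set J := Cfsg.thompsonSubgroupA P
  obtain ⟨R, ⟨hR, hQR, hRle⟩, hmax⟩ := Set.exists_max_image
    {R : Subgroup P | Cfsg.IsCentrallyLarge R ∧ Q ≤ R ∧ R ≤ Q ⊔ J}
    (fun R => Nat.card R) (Set.toFinite _) ⟨Q, hQ, le_rfl, le_sup_left⟩
  have hJR : J ≤ R := sSup_le fun A hA => by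
    have h1 := hmax (R ⊔ A) ⟨(cl_sup_maxAb hR hA).2.1, hQR.trans le_sup_left,
      sup_le hRle ((le_sSup hA : A ≤ J).trans le_sup_right)⟩
    exact le_sup_right.trans (eq_of_le_of_card_ge le_sup_left h1).ge
  have hRe : R = Q ⊔ J := le_antisymm hRle (sup_le hQR hJR)
  rw [← hRe]
  refine ⟨?_, hR⟩
  obtain ⟨A, hA⟩ : ∃ A, A ∈ Cfsg.maxAbelianSubgroups P := by
    obtain ⟨A, hA, hm⟩ := Set.exists_max_image {A : Subgroup P | IsMulCommutative A} (fun A => Nat.card A)
      (Set.toFinite _) ⟨⊥, ⟨⟨fun a b => Subsingleton.elim _ _⟩⟩⟩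
    exact ⟨A, hA, fun B hB => hm B hB⟩
  have hcJ : centralizer (J : Set P) ≤ J := by
    refine ((centralizer_le (le_sSup hA : A ≤ J)).trans (maxAb_centralizer hA).le).trans ?_
    exact le_sSup hA
  refine le_trans (centralizer_le ?_) (large_centralizer (cl_iff.mp hR).1).2.ge
  exact le_inf ((centralizer_le hJR).trans hcJ) (centralizer_le hJR)

/-- two minimal centrally large subgroups -/
theorem mcl_pair {Q R : Subgroup P} (hQ : Cfsg.IsMinimalCentrallyLarge Q) (hR : Cfsg.IsMinimalCentrallyLarge R) :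
    (Q ⊓ R) ⊔ (Q ⊓ centralizer (Q : Set P)) = Q ∧ ⁅Q, Q⁆ = ⁅Q ⊓ R, Q ⊓ R⁆ ∧
      (Q ⊓ R) ⊓ (Q ⊓ centralizer (Q : Set P)) = (Q ⊓ R) ⊓ centralizer ((Q ⊓ R : Subgroup P) : Set P) := by
  obtain ⟨hQl, hQc⟩ := cl_iff.mp hQ.1
  obtain ⟨hRl, -⟩ := cl_iff.mp hR.1
  set Z := centralizer (Q : Set P)
  rw [inf_eq_right.mpr hQc]
  set D := Q ⊓ R
  obtain ⟨-, -, hDl, hset, hcD⟩ := large_sup_inf hQl hRl
  obtain ⟨hZl, hQcc⟩ := large_centralizer hQl
  obtain ⟨hX, hXl, -⟩ := large_sup_inf hDl hZl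
  have hXc : centralizer ((D ⊔ Z : Subgroup P) : Set P) ≤ D ⊔ Z := by
    rw [centralizer_sup, ← hQcc, hcD]
    rintro x ⟨hx, hxQ⟩
    obtain ⟨a, ha, b, hb, rfl⟩ : x ∈ (Z : Set P) * (centralizer (R : Set P) : Set P) := hset ▸ hx
    have hbQ : b ∈ Q := by
      have h := Q.mul_mem (Q.inv_mem (hQc ha)) hxQ
      rwa [inv_mul_cancel_left] at h
    exact mul_mem (mem_sup_right ha) (mem_sup_left ⟨hbQ, (cl_iff.mp hR.1).2 hb⟩)
  have hXQ := hQ.2 _ (sup_le inf_le_left hQc) (cl_iff.mpr ⟨hXl, hXc⟩)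
  refine ⟨hXQ, le_antisymm ?_ (commutator_mono inf_le_left inf_le_left), ?_⟩
  · rw [commutator_le]
    intro x hx y hy
    rw [← hXQ] at hx hy
    obtain ⟨d, hd, z, hz, rfl⟩ : x ∈ (D : Set P) * (Z : Set P) := hX ▸ hx
    obtain ⟨e, he, w, hw, rfl⟩ : y ∈ (D : Set P) * (Z : Set P) := hX ▸ hy
    have c : ∀ u ∈ Z, ∀ v ∈ Q, v * u = u * v := fun u hu v hv => mem_centralizer_iff.mp hu v hv
    have h1 : d * z * (e * w) * (d * z)⁻¹ * (e * w)⁻¹ = d * e * d⁻¹ * e⁻¹ := by
      have c1 : d * z * (e * w) * (d * z)⁻¹ = d * (e * w) * d⁻¹ := by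
        have := c z hz (e * w) (Q.mul_mem he.1 (hQc hw))
        calc d * z * (e * w) * (d * z)⁻¹ = d * (z * (e * w)) * z⁻¹ * d⁻¹ := by group
          _ = _ := by rw [← this]; group
      have c2 : w * d⁻¹ = d⁻¹ * w := (c w hw _ (Q.inv_mem hd.1)).symm
      rw [c1]
      calc d * (e * w) * d⁻¹ * (e * w)⁻¹ = d * e * (w * d⁻¹) * w⁻¹ * e⁻¹ := by group
        _ = _ := by rw [c2]; group
    show d * z * (e * w) * (d * z)⁻¹ * (e * w)⁻¹ ∈ _
    rw [h1]
    exact commutator_mem_commutator hd he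
  · refine le_antisymm (inf_le_inf_left _ (centralizer_le inf_le_left)) ?_
    rintro x ⟨hxD, hxc⟩
    refine ⟨hxD, mem_centralizer_iff.mpr fun q hq => ?_⟩
    rw [← hXQ] at hq
    obtain ⟨d, hd, z, hz, rfl⟩ : q ∈ (D : Set P) * (Z : Set P) := hX ▸ hq
    rw [mul_assoc, ← mem_centralizer_iff.mp hz x hxD.1, ← mul_assoc, mem_centralizer_iff.mp hxc d hd, mul_assoc]

theorem mcl_card {Q R : Subgroup P} (hQ : Cfsg.IsMinimalCentrallyLarge Q) (hR : Cfsg.IsMinimalCentrallyLarge R) :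
    ⁅Q, Q⁆ = ⁅R, R⁆ ∧ Nat.card Q = Nat.card R ∧
      Nat.card ↥(Q ⊓ centralizer (Q : Set P)) = Nat.card ↥(R ⊓ centralizer (R : Set P)) := by
  obtain ⟨h1, h2, h3⟩ := mcl_pair hQ hR
  obtain ⟨h1', h2', h3'⟩ := mcl_pair hR hQ
  rw [inf_comm R Q] at h1' h2' h3'
  have fQ : Nat.card Q * Nat.card ↥(Q ⊓ centralizer (Q : Set P)) = Cfsg.maxCentralProduct P := by
    rw [← card_center]; exact hQ.1
  have fR : Nat.card R * Nat.card ↥(R ⊓ centralizer (R : Set P)) = Cfsg.maxCentralProduct P := by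
    rw [← card_center]; exact hR.1
  set ZQ := Q ⊓ centralizer (Q : Set P)
  set ZR := R ⊓ centralizer (R : Set P)
  set D := Q ⊓ R
  set ZD := D ⊓ centralizer (D : Set P)
  have hset : ∀ (X Z : Subgroup P), Z ≤ X → (∀ u ∈ Z, ∀ v ∈ X, v * u = u * v) → D ≤ X → D ⊔ Z = X →
      D ⊓ Z = ZD → Nat.card X * Nat.card ↥ZD = Nat.card D * Nat.card Z := by
    intro X Z hZX hc hDX hs hi
    have hn : Z ≤ normalizer (D : Set P) := fun z hz => mem_normalizer_iff.mpr fun d => by
      constructor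
      · intro hd; rwa [← hc z hz d (hDX hd), mul_inv_cancel_right]
      · intro hd
        have := hc z hz _ (hDX hd)
        rw [mul_assoc (z * d), inv_mul_cancel, mul_one, ← mul_assoc, ← mul_assoc] at this
        simpa [mul_assoc] using (show d ∈ D by
          have h4 : z * d * z⁻¹ = d := by
            have h5 := hc z hz (z * d * z⁻¹) (hDX hd)
            rw [inv_mul_cancel_right] at h5
            exact mul_left_cancel h5.symm
          rwa [h4] at hd)
    rw [← hs, ← hi]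
    exact Cfsg.Lib.Coprime.card_sup_mul_card_inf hn
  have eq1 := hset Q ZQ inf_le_left (fun u hu v hv => mem_centralizer_iff.mp hu.2 v hv) inf_le_left h1 h3
  have eq2 := hset R ZR inf_le_left (fun u hu v hv => mem_centralizer_iff.mp hu.2 v hv) inf_le_right h1' h3'
  have hZ : Nat.card ZQ = Nat.card ZR := by
    have e : Nat.card ZQ ^ 2 * Nat.card D = Nat.card ZR ^ 2 * Nat.card D := by
      calc Nat.card ZQ ^ 2 * Nat.card D = Nat.card ZQ * (Nat.card D * Nat.card ZQ) := by ring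
        _ = (Nat.card Q * Nat.card ZQ) * Nat.card ZD := by rw [← eq1]; ring
        _ = (Nat.card R * Nat.card ZR) * Nat.card ZD := by rw [fQ, fR]
        _ = Nat.card ZR * (Nat.card D * Nat.card ZR) := by rw [← eq2]; ring
        _ = _ := by ring
    exact Nat.pow_left_injective two_ne_zero (Nat.eq_of_mul_eq_mul_right Nat.card_pos e)
  refine ⟨h2.trans h2'.symm, ?_, hZ⟩
  exact Nat.eq_of_mul_eq_mul_right (Nat.card_pos (α := ↥ZQ)) (by rw [fQ, hZ, fR])

theorem mcl_abelian {Q : Subgroup P} (hQ : Cfsg.IsMinimalCentrallyLarge Q) (hc : IsMulCommutative Q) (X : Subgroup P) :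
    Cfsg.IsMinimalCentrallyLarge X ↔ X ∈ Cfsg.maxAbelianSubgroups P := by
  have hself : ∀ Y : Subgroup P, IsMulCommutative Y → Y ⊓ centralizer (Y : Set P) = Y := fun Y hY =>
    inf_eq_left.mpr fun a ha => mem_centralizer_iff.mpr fun b hb =>
      haveI := hY
      congrArg Subtype.val (mul_comm' (⟨b, hb⟩ : Y) ⟨a, ha⟩)
  have fQ : Nat.card Q * Nat.card Q = Cfsg.maxCentralProduct P := by
    have h := hQ.1
    rw [Cfsg.IsCentrallyLarge, card_center, hself Q hc] at h
    exact h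
  have hmax : ∀ B : Subgroup P, IsMulCommutative B → Nat.card B ≤ Nat.card Q := fun B hB => by
    have h := center_prod_le B
    rw [hself B hB, ← fQ] at h
    exact Nat.mul_self_le_mul_self_iff.mp h
  constructor
  · intro hX
    have hXc : IsMulCommutative X := by
      have h0 : ⁅Q, Q⁆ = ⊥ := commutator_eq_bot_iff_le_centralizer.mpr ((hself Q hc).ge.trans inf_le_right)
      have h1 := commutator_eq_bot_iff_le_centralizer.mp ((mcl_card hQ hX).1.symm.trans h0)
      exact ⟨⟨fun a b => Subtype.ext (mem_centralizer_iff.mp (h1 b.2) a a.2)⟩⟩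
    exact ⟨hXc, fun B hB => (hmax B hB).trans (mcl_card hQ hX).2.1.le⟩
  · intro hX
    have hcard : Nat.card X = Nat.card Q := le_antisymm (hmax X hX.1) (hX.2 Q hc)
    have hcl : Cfsg.IsCentrallyLarge X := by
      rw [Cfsg.IsCentrallyLarge, card_center, hself X hX.1, hcard, fQ]
    refine ⟨hcl, fun R hR hRcl => eq_of_le_of_card_ge hR ?_⟩
    obtain ⟨R', hR'R, hR'⟩ := exists_mcl hRcl
    exact hcard.le.trans (((mcl_card hQ hR').2.1).le.trans (card_le_of_le hR'R))

end Cfsg.Lib.CD
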