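import Mathlib
import Cfsg.Prelude.Def_BaumannBlocks
import Cfsg.Agent.Components.CD.Lattice

/-!
A replacement theorem for minimal centrally large subgroups.
-/

set_option autoImplicit false
set_option linter.style.haveILetI false
set_option linter.unusedSectionVars false

namespace Cfsg.Lib.CD

open Subgroup
open scoped Pointwise commutatorElement

variable {P : Type*} [Group P] [Finite P]

theorem cl_map (e : P ≃* P) {Q : Subgroup P} (h : Cfsg.IsCentrallyLarge Q) :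
    Cfsg.IsCentrallyLarge (Q.map (e : P →* P)) := by
  unfold Cfsg.IsCentrallyLarge at h ⊢
  rw [← h]
  congr 1
  · exact (Nat.card_congr (e.subgroupMap Q).toEquiv).symm
  · exact (Nat.card_congr (Subgroup.centerCongr (e.subgroupMap Q)).toEquiv).symm

theorem mcl_map (e : P ≃* P) {Q : Subgroup P} (h : Cfsg.IsMinimalCentrallyLarge Q) :
    Cfsg.IsMinimalCentrallyLarge (Q.map (e : P →* P)) := by
  refine ⟨cl_map e h.1, fun R hR hRc => ?_⟩
  have h1 := h.2 (R.map (e.symm : P →* P)) (by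
    rintro _ ⟨r, hr, rfl⟩
    obtain ⟨q, hq, rfl⟩ := hR hr
    simpa using hq) (cl_map e.symm hRc)
  rw [← h1, map_map]
  ext y
  simp

/-- `∑ |A ∩ L_i|` -/
noncomputable def pot (n : ℕ) (A : Subgroup P) : ℕ :=
  ∑ i ∈ Finset.range (n + 1), Nat.card ↥(A ⊓ (⊤ : Subgroup P).lowerCentralSeries i)

/-- commutators between two abelian factors commute -/
theorem ito_comm {A B : Subgroup P} [IsMulCommutative A] [IsMulCommutative B]
    (hset : ((A ⊔ B : Subgroup P) : Set P) = (A : Set P) * (B : Set P)) {a₁ a₂ b₁ b₂ : P}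
    (ha₁ : a₁ ∈ A) (ha₂ : a₂ ∈ A) (hb₁ : b₁ ∈ B) (hb₂ : b₂ ∈ B) :
    Commute ⁅a₁, b₁⁆ ⁅a₂, b₂⁆ := by
  have cA : ∀ u ∈ A, ∀ v ∈ A, u * v = v * u := fun u hu v hv =>
    congrArg Subtype.val (mul_comm' (⟨u, hu⟩ : A) ⟨v, hv⟩)
  have cB : ∀ u ∈ B, ∀ v ∈ B, u * v = v * u := fun u hu v hv =>
    congrArg Subtype.val (mul_comm' (⟨u, hu⟩ : B) ⟨v, hv⟩)
  have split : ∀ u ∈ A ⊔ B, ∃ a ∈ A, ∃ b ∈ B, a * b = u := fun u hu => by
    obtain ⟨a, ha, b, hb, rfl⟩ : u ∈ (A : Set P) * (B : Set P) := hset ▸ hu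
    exact ⟨a, ha, b, hb, rfl⟩
  have split' : ∀ u ∈ A ⊔ B, ∃ b ∈ B, ∃ a ∈ A, b * a = u := fun u hu => by
    obtain ⟨a, ha, b, hb, h⟩ := split u⁻¹ (inv_mem hu)
    exact ⟨b⁻¹, inv_mem hb, a⁻¹, inv_mem ha, by rw [← _root_.mul_inv_rev, h, inv_inv]⟩
  -- conjugation by an element of `A`
  have e1 : ∀ {a b c u v w : P}, a ∈ A → c ∈ A → b ∈ B → u ∈ B → v ∈ A → u * v = c * b →
      c * ⁅a, b⁆ * c⁻¹ = ⁅a, u⁆ := by
    intro a b c u v w ha hc hb hu hv he
    have h1 : c * a = a * c := cA c hc a ha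
    have h2 : v * a⁻¹ = a⁻¹ * v := cA v hv _ (inv_mem ha)
    rw [commutatorElement_def, commutatorElement_def]
    calc c * (a * b * a⁻¹ * b⁻¹) * c⁻¹ = (c * a) * b * a⁻¹ * (c * b)⁻¹ := by group
      _ = a * (c * b) * a⁻¹ * (c * b)⁻¹ := by rw [h1]; group
      _ = a * u * (v * a⁻¹) * (u * v)⁻¹ := by rw [← he]; group
      _ = _ := by rw [h2]; group
  have e2 : ∀ {a b c u v w : P}, a ∈ A → c ∈ B → b ∈ B → u ∈ A → v ∈ B → u * v = c * a →
      c * ⁅a, b⁆ * c⁻¹ = ⁅u, b⁆ := by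
    intro a b c u v w ha hc hb hu hv he
    have h1 : c * b = b * c := cB c hc b hb
    have h2 : v * b = b * v := cB v hv b hb
    rw [commutatorElement_def, commutatorElement_def]
    calc c * (a * b * a⁻¹ * b⁻¹) * c⁻¹ = (c * a) * b * a⁻¹ * (c * b)⁻¹ := by group
      _ = (c * a) * b * (c * a)⁻¹ * b⁻¹ := by rw [h1]; group
      _ = u * (v * b) * v⁻¹ * u⁻¹ * b⁻¹ := by rw [← he]; group
      _ = _ := by rw [h2]; group
  have key : ∀ a ∈ A, ∀ b ∈ B, a * (b * ⁅a₁, b₁⁆ * b⁻¹) * a⁻¹ = b * (a * ⁅a₁, b₁⁆ * a⁻¹) * b⁻¹ := by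
    intro a ha b hb
    obtain ⟨u, hu, v, hv, he⟩ := split' (a * b₁) (mul_mem (mem_sup_left ha) (mem_sup_right hb₁))
    obtain ⟨s, hs, t, ht, hf⟩ := split (b * a₁) (mul_mem (mem_sup_right hb) (mem_sup_left ha₁))
    rw [e2 (w := 1) ha₁ hb hb₁ hs ht hf, e1 (w := 1) ha₁ ha hb₁ hu hv he, e1 (w := 1) hs ha hb₁ hu hv he,
      e2 (w := 1) ha₁ hb hu hs ht hf]
  have h := key a₂⁻¹ (inv_mem ha₂) b₂⁻¹ (inv_mem hb₂)
  show ⁅a₁, b₁⁆ * ⁅a₂, b₂⁆ = ⁅a₂, b₂⁆ * ⁅a₁, b₁⁆
  rw [commutatorElement_def a₂ b₂]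
  calc ⁅a₁, b₁⁆ * (a₂ * b₂ * a₂⁻¹ * b₂⁻¹)
      = a₂ * b₂ * (b₂⁻¹ * (a₂⁻¹ * ⁅a₁, b₁⁆ * a₂⁻¹⁻¹) * b₂⁻¹⁻¹) * a₂⁻¹ * b₂⁻¹ := by group
    _ = _ := by rw [← h]; group

/-- an element of the abelian `B`, `Z(Q)B = BZ(Q)`, not normalising `Q` allows to improve `Q` -/
theorem replace_mcl {n : ℕ} (hn : (⊤ : Subgroup P).lowerCentralSeries n = ⊥) {Q B : Subgroup P}
    (hQ : Cfsg.IsMinimalCentrallyLarge Q) [IsMulCommutative B]
    (hset : ((centralizer (Q : Set P) ⊔ B : Subgroup P) : Set P) =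
      (centralizer (Q : Set P) : Set P) * (B : Set P))
    {x : P} (hxB : x ∈ B) (hx : x ∉ normalizer (Q : Set P)) :
    ∃ Q' : Subgroup P, Cfsg.IsMinimalCentrallyLarge Q' ∧ pot n (centralizer (Q : Set P)) < pot n (centralizer (Q' : Set P)) := by
  classical
  obtain ⟨hQl, hQc⟩ := cl_iff.mp hQ.1
  set A := centralizer (Q : Set P) with hAdef
  have hQA : Q = centralizer (A : Set P) := (large_centralizer hQl).2
  haveI hAc : IsMulCommutative A :=
    ⟨⟨fun a b => Subtype.ext (mem_centralizer_iff.mp b.2 a (hQc a.2))⟩⟩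
  have cA : ∀ u ∈ A, ∀ v ∈ A, u * v = v * u := fun u hu v hv =>
    congrArg Subtype.val (mul_comm' (⟨u, hu⟩ : A) ⟨v, hv⟩)
  set R := Q.map ((MulAut.conj x : P ≃* P) : P →* P) with hRdef
  have hR : Cfsg.IsMinimalCentrallyLarge R := mcl_map _ hQ
  have hRx : ∀ q ∈ Q, x * q * x⁻¹ ∈ R := fun q hq => ⟨q, hq, rfl⟩
  obtain ⟨hsup, -, hinf⟩ := mcl_pair hQ hR
  obtain ⟨-, -, hinf'⟩ := mcl_pair hR hQ
  rw [inf_comm R Q] at hinf'
  rw [inf_eq_right.mpr hQc] at hsup hinf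
  set D := Q ⊓ R
  let c : P → P := fun a => x * a * x⁻¹ * a⁻¹
  set M := closure (c '' (A : Set P)) with hMdef
  have hcM : ∀ a ∈ A, c a ∈ M := fun a ha => subset_closure ⟨a, ha, rfl⟩
  haveI hMc : IsMulCommutative M := by
    refine Subgroup.isMulCommutative_closure ?_
    rintro _ ⟨a, ha, rfl⟩ _ ⟨b, hb, rfl⟩
    have h : ∀ a, c a = ⁅a, x⁆⁻¹ := fun a => by rw [commutatorElement_inv, commutatorElement_def]
    rw [h a, h b]
    exact (ito_comm hset ha hb hxB hxB).inv_inv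
  have cM : ∀ u ∈ M, ∀ v ∈ M, u * v = v * u := fun u hu v hv =>
    congrArg Subtype.val (mul_comm' (⟨u, hu⟩ : M) ⟨v, hv⟩)
  -- `D` centralises `A`, `Aˣ` and `M`
  have hDA : ∀ d ∈ D, ∀ a ∈ A, d * a = a * d := fun d hd a ha => mem_centralizer_iff.mp ha d hd.1
  have hDAx : ∀ d ∈ D, ∀ a ∈ A, Commute d (x * a * x⁻¹) := by
    rintro d ⟨-, q, hq, rfl⟩ a ha
    show Commute (x * q * x⁻¹) _
    have h : q * a = a * q := mem_centralizer_iff.mp ha q hq
    show x * q * x⁻¹ * (x * a * x⁻¹) = x * a * x⁻¹ * (x * q * x⁻¹)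
    calc x * q * x⁻¹ * (x * a * x⁻¹) = x * (q * a) * x⁻¹ := by group
      _ = _ := by rw [h]; group
  have hDM : ∀ d ∈ D, d ∈ centralizer (M : Set P) := fun d hd => by
    rw [hMdef, centralizer_closure]
    refine mem_centralizer_iff.mpr ?_
    rintro _ ⟨a, ha, rfl⟩
    exact ((hDAx d hd a ha).mul_right ((show Commute d a from hDA d hd a ha).inv_right)).symm.eq
  have key : ∀ a ∈ A, ∀ b ∈ A, (c b)⁻¹ * c a ∈ A → b⁻¹ * a ∈ centralizer (M : Set P) := by
    intro a ha b hb h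
    have he : b⁻¹ * a ∈ A := mul_mem (inv_mem hb) ha
    have h1 : (c b)⁻¹ * c a = b * c (b⁻¹ * a) * b⁻¹ := by simp only [c]; group
    have hce : c (b⁻¹ * a) ∈ A := by
      have := mul_mem (mul_mem (inv_mem hb) h) hb
      rwa [h1, mul_assoc b, ← mul_assoc, ← mul_assoc, inv_mul_cancel, one_mul, inv_mul_cancel_right] at this
    rw [hMdef, centralizer_closure]
    refine mem_centralizer_iff.mpr ?_
    rintro _ ⟨d, hd, rfl⟩
    set e := b⁻¹ * a
    have h2 : c (d * e) = c d * (d * c e * d⁻¹) := by simp only [c]; group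
    have h3 : c (e * d) = c e * (e * c d * e⁻¹) := by simp only [c]; group
    rw [cA d hd _ hce, mul_inv_cancel_right] at h2
    rw [cA d hd e he, h3, ← cM _ (hcM _ he) _ (hcM _ hd)] at h2
    have h4 := mul_left_cancel h2
    rw [mul_inv_eq_iff_eq_mul] at h4
    exact h4.symm
  set C := A ⊓ centralizer (M : Set P) with hCdef
  set A' := M ⊔ C with hA'def
  have hMC : ∀ u ∈ M, ∀ v ∈ C, u * v = v * u := fun u hu v hv => mem_centralizer_iff.mp hv.2 u hu
  haveI hA'c : IsMulCommutative A' := by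
    rw [hA'def, sup_eq_closure]
    refine Subgroup.isMulCommutative_closure ?_
    rintro u (hu | hu) v (hv | hv)
    · exact cM u hu v hv
    · exact hMC u hu v hv
    · exact (hMC v hv u hu).symm
    · exact cA u hu.1 v hv.1
  set L : ℕ → Subgroup P := fun i => (⊤ : Subgroup P).lowerCentralSeries i
  have hLn : ∀ i, (L i).Normal := fun i => inferInstance
  have hcL : ∀ i, ∀ a ∈ L i, c a ∈ L (i + 1) := fun i a ha => by
    have : ⁅a, x⁆ ∈ L (i + 1) := commutator_mem_commutator ha (mem_top x)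
    have h2 : c a = ⁅a, x⁆⁻¹ := by rw [commutatorElement_inv, commutatorElement_def]
    rw [h2]
    exact inv_mem this
  have hle : ∀ i, Nat.card ↥(A ⊓ L i) ≤ Nat.card ↥(A' ⊓ L i) := by
    intro i
    have hsup' : (M ⊓ L i) ⊔ (C ⊓ L i) ≤ A' ⊓ L i :=
      sup_le (inf_le_inf_right _ le_sup_left) (inf_le_inf_right _ le_sup_right)
    have hn' : C ⊓ L i ≤ normalizer ((M ⊓ L i : Subgroup P) : Set P) := fun v hv => by
      refine mem_normalizer_iff.mpr fun h => ?_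
      constructor
      · intro hh
        rwa [← hMC h hh.1 v hv.1, mul_inv_cancel_right]
      · intro hh
        have := hMC _ hh.1 v hv.1
        rw [inv_mul_cancel_right] at this
        rwa [mul_left_cancel this.symm] at hh
    have hcard := Cfsg.Lib.Coprime.card_sup_mul_card_inf hn'
    have hI : (M ⊓ L i) ⊓ (C ⊓ L i) = A ⊓ M ⊓ L i := by
      refine le_antisymm (fun y hy => ⟨⟨hy.2.1.1, hy.1.1⟩, hy.1.2⟩) fun y hy => ⟨⟨hy.1.2, hy.2⟩, ⟨hy.1.1, ?_⟩, hy.2⟩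
      exact mem_centralizer_iff.mpr fun u hu => cM u hu y hy.1.2
    rw [hI] at hcard
    have hrel : (C ⊓ L i).relIndex (A ⊓ L i) ≤ (A ⊓ M ⊓ L i).relIndex (M ⊓ L i) := by
      let f : ↥(A ⊓ L i) ⧸ (C ⊓ L i).subgroupOf (A ⊓ L i) →
          ↥(M ⊓ L i) ⧸ (A ⊓ M ⊓ L i).subgroupOf (M ⊓ L i) := fun q =>
        QuotientGroup.mk ⟨c (q.out : P), hcM _ q.out.2.1, (show L (i + 1) ≤ L i from Subgroup.lowerCentralSeries_antitone _ (Nat.le_succ i)) (hcL i _ q.out.2.2)⟩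
      refine Nat.card_le_card_of_injective f fun q r h => ?_
      have h1 := QuotientGroup.eq.mp h
      rw [← QuotientGroup.out_eq' q, ← QuotientGroup.out_eq' r]
      refine QuotientGroup.eq.mpr ?_
      rw [mem_subgroupOf] at h1 ⊢
      have h2 := key _ r.out.2.1 _ q.out.2.1 h1.1.1
      exact ⟨⟨A.mul_mem (A.inv_mem q.out.2.1) r.out.2.1, h2⟩, (L i).mul_mem ((L i).inv_mem q.out.2.2) r.out.2.2⟩
    have e1 : Nat.card ↥(C ⊓ L i) * (C ⊓ L i).relIndex (A ⊓ L i) = Nat.card ↥(A ⊓ L i) := by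
      rw [← relIndex_bot_left, ← relIndex_bot_left,
        relIndex_mul_relIndex _ _ _ bot_le (inf_le_inf_right _ inf_le_left)]
    have e2 : Nat.card ↥(A ⊓ M ⊓ L i) * (A ⊓ M ⊓ L i).relIndex (M ⊓ L i) = Nat.card ↥(M ⊓ L i) := by
      rw [← relIndex_bot_left, ← relIndex_bot_left,
        relIndex_mul_relIndex _ _ _ bot_le (inf_le_inf_right _ inf_le_right)]
    refine le_trans ?_ (card_le_of_le hsup')
    refine Nat.le_of_mul_le_mul_right (c := Nat.card ↥(A ⊓ M ⊓ L i)) ?_ Nat.card_pos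
    rw [hcard, ← e1, ← e2]
    calc Nat.card ↥(C ⊓ L i) * (C ⊓ L i).relIndex (A ⊓ L i) * Nat.card ↥(A ⊓ M ⊓ L i)
        ≤ Nat.card ↥(C ⊓ L i) * (A ⊓ M ⊓ L i).relIndex (M ⊓ L i) * Nat.card ↥(A ⊓ M ⊓ L i) :=
          Nat.mul_le_mul_right _ (Nat.mul_le_mul_left _ hrel)
      _ = _ := by ring
  -- strictness
  have hnA : ¬ A ≤ C := by
    intro hAC
    refine hx ?_
    have hcA : ∀ a ∈ A, x * a * x⁻¹ ∈ A := fun a ha => by
      have h1 : c a ∈ A := by
        have : c a ∈ centralizer ((D ⊔ A : Subgroup P) : Set P) := by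
          rw [centralizer_sup]
          exact ⟨mem_centralizer_iff.mpr fun d hd => (mem_centralizer_iff.mp (hDM d hd) _ (hcM a ha)).symm,
            mem_centralizer_iff.mpr fun b hb => (mem_centralizer_iff.mp (hAC hb).2 _ (hcM a ha)).symm⟩
        rwa [hsup] at this
      have := mul_mem h1 ha
      simpa [c] using this
    have hmapA : A.map ((MulAut.conj x : P ≃* P) : P →* P) = A :=
      eq_of_le_of_card_ge (by rintro _ ⟨a, ha, rfl⟩; exact hcA a ha)
        (Nat.card_congr ((MulAut.conj x).subgroupMap A).toEquiv).le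
    rw [mem_normalizer_iff_map_conj_eq]
    refine eq_of_le_of_card_ge ?_ (Nat.card_congr ((MulAut.conj x).subgroupMap Q).toEquiv).le
    intro y hy
    rw [hQA]
    refine mem_centralizer_iff.mpr fun a ha => ?_
    obtain ⟨q, hq, rfl⟩ := hy
    obtain ⟨a', ha', rfl⟩ : a ∈ A.map ((MulAut.conj x : P ≃* P) : P →* P) := hmapA.symm ▸ ha
    rw [← map_mul, ← map_mul, mem_centralizer_iff.mp ha' q hq]
  have hex : ∃ i, A ⊓ L i ≤ C := ⟨n, by rw [show L n = ⊥ from hn, inf_bot_eq]; exact bot_le⟩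
  obtain ⟨k, hk⟩ : ∃ k, Nat.find hex = k + 1 := by
    refine Nat.exists_eq_succ_of_ne_zero fun h0 => hnA ?_
    have := Nat.find_spec hex
    rwa [h0, show L 0 = ⊤ from rfl, inf_top_eq] at this
  have hk1 : A ⊓ L (k + 1) ≤ C := hk ▸ Nat.find_spec hex
  have hk0 : ¬ A ⊓ L k ≤ C := Nat.find_min hex (by omega)
  have hkn : k + 1 ≤ n := hk ▸ Nat.find_le (by rw [show L n = ⊥ from hn, inf_bot_eq]; exact bot_le)
  obtain ⟨a, ⟨haA, haL⟩, haC⟩ := SetLike.not_le_iff_exists.mp hk0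
  have hca : c a ∉ A := fun h => haC ⟨haA, by
    have := key a haA 1 A.one_mem (by simpa [c] using h)
    simpa using this⟩
  have hlt : Nat.card ↥(A ⊓ L (k + 1)) < Nat.card ↥(A' ⊓ L (k + 1)) := by
    have hsub : A ⊓ L (k + 1) ≤ A' ⊓ L (k + 1) := le_inf (hk1.trans le_sup_right) inf_le_right
    by_contra hge
    have := eq_of_le_of_card_ge hsub (not_lt.mp hge)
    exact hca (this.ge ⟨mem_sup_left (hcM a haA), hcL k a haL⟩).1
  have hpot : pot n A < pot n A' :=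
    Finset.sum_lt_sum (fun i _ => hle i) ⟨k + 1, Finset.mem_range.mpr (by omega), hlt⟩
  -- the new subgroup
  have hDA' : ∀ d ∈ D, d ∈ centralizer (A' : Set P) := fun d hd => by
    rw [hA'def, centralizer_sup]
    exact ⟨hDM d hd, mem_centralizer_iff.mpr fun v hv => (hDA d hd v hv.1).symm⟩
  have hDn : A' ≤ normalizer (D : Set P) := fun v hv => by
    refine mem_normalizer_iff.mpr fun h => ?_
    constructor
    · intro hh
      rwa [mem_centralizer_iff.mp (hDA' h hh) v hv, mul_inv_cancel_right]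
    · intro hh
      have := mem_centralizer_iff.mp (hDA' _ hh) v hv
      rw [inv_mul_cancel_right] at this
      rwa [mul_left_cancel this] at hh
  have hDAn : A ≤ normalizer (D : Set P) := fun v hv => by
    refine mem_normalizer_iff.mpr fun h => ?_
    constructor
    · intro hh
      rwa [← hDA h hh v hv, mul_inv_cancel_right]
    · intro hh
      have := hDA _ hh v hv
      rw [inv_mul_cancel_right] at this
      rwa [mul_left_cancel this.symm] at hh
  have hDI : D ⊓ A' = D ⊓ A := by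
    refine le_antisymm (fun y hy => ?_) fun y hy => ?_
    · rw [hinf]
      exact ⟨hy.1, mem_centralizer_iff.mpr fun d hd => (mem_centralizer_iff.mp (hDA' d hd) y hy.2).symm⟩
    · refine ⟨hy.1, mem_sup_right ⟨hy.2, ?_⟩⟩
      have hyR : y ∈ R ⊓ centralizer (R : Set P) := by
        have := (hinf'.symm ▸ (hinf ▸ hy) : y ∈ D ⊓ (R ⊓ centralizer (R : Set P)))
        exact this.2
      rw [hMdef, centralizer_closure]
      refine mem_centralizer_iff.mpr ?_
      rintro _ ⟨b, hb, rfl⟩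
      have h1 : Commute (x * b * x⁻¹) y := mem_centralizer_iff.mp hyR.2 _ (hRx b (hQc hb))
      exact (h1.mul_left ((show Commute b y from cA b hb y hy.2).inv_left)).eq
  have hcQ := Cfsg.Lib.Coprime.card_sup_mul_card_inf hDAn
  have hcQ' := Cfsg.Lib.Coprime.card_sup_mul_card_inf hDn
  rw [hsup] at hcQ
  rw [hDI] at hcQ'
  set Q' := D ⊔ A' with hQ'def
  have hA0 : Nat.card A ≤ Nat.card A' := by
    have := hle 0
    rwa [show L 0 = ⊤ from rfl, inf_top_eq, inf_top_eq] at this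
  have hQ0 : Nat.card Q ≤ Nat.card Q' := Nat.le_of_mul_le_mul_right (c := Nat.card ↥(D ⊓ A))
    (by rw [hcQ, hcQ']; exact Nat.mul_le_mul_left _ hA0) Nat.card_pos
  have hA'Z : A' ≤ Q' ⊓ centralizer (Q' : Set P) := le_inf le_sup_right (by
    rw [hQ'def, centralizer_sup]
    exact le_inf (fun v hv => mem_centralizer_iff.mpr fun d hd => (mem_centralizer_iff.mp (hDA' d hd) v hv).symm)
      (fun v hv => mem_centralizer_iff.mpr fun u hu => congrArg Subtype.val (mul_comm' (⟨u, hu⟩ : A') ⟨v, hv⟩)))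
  have hm := center_prod_le Q'
  have hmQ : Nat.card Q * Nat.card A = Cfsg.maxCentralProduct P := by
    have h := hQ.1
    rwa [Cfsg.IsCentrallyLarge, card_center, inf_eq_right.mpr hQc] at h
  have hZ' := card_le_of_le hA'Z
  have e3 : Nat.card Q' = Nat.card Q := by
    refine le_antisymm (Nat.le_of_mul_le_mul_right (c := Nat.card A) ?_ Nat.card_pos) hQ0
    rw [hmQ]
    exact le_trans (Nat.mul_le_mul_left _ (hA0.trans hZ')) hm
  have e4 : Nat.card ↥(Q' ⊓ centralizer (Q' : Set P)) = Nat.card A := by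
    refine le_antisymm (Nat.le_of_mul_le_mul_left (c := Nat.card Q) ?_ Nat.card_pos) (hA0.trans hZ')
    rw [hmQ]
    rwa [e3] at hm
  have hQ'cl : Cfsg.IsCentrallyLarge Q' := by
    rw [Cfsg.IsCentrallyLarge, card_center, e3, e4, hmQ]
  have hQ'm : Cfsg.IsMinimalCentrallyLarge Q' := by
    refine ⟨hQ'cl, fun S hS hScl => eq_of_le_of_card_ge hS ?_⟩
    obtain ⟨S', hS'S, hS'⟩ := exists_mcl hScl
    exact e3.le.trans ((mcl_card hQ hS').2.1.le.trans (card_le_of_le hS'S))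
  refine ⟨Q', hQ'm, ?_⟩
  have hcQ'' : centralizer (Q' : Set P) = A' := by
    have h1 : Q' ⊓ centralizer (Q' : Set P) = centralizer (Q' : Set P) := inf_eq_right.mpr (cl_iff.mp hQ'cl).2
    rw [← h1]
    exact (eq_of_le_of_card_ge hA'Z (e4.le.trans hA0)).symm
  rwa [hcQ'']

/-- a minimal centrally large subgroup normalized by all others and by the Thompson subgroup -/
theorem exists_normalized [Group.IsNilpotent P] :
    ∃ Q : Subgroup P, Cfsg.IsMinimalCentrallyLarge Q ∧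
      Cfsg.thompsonSubgroupA P ≤ normalizer (Q : Set P) ∧
      Cfsg.minimalCentrallyLargeJoin P ≤ normalizer (Q : Set P) := by
  classical
  obtain ⟨n, hn⟩ := Subgroup.nilpotent_iff_lowerCentralSeries.mp ‹Group.IsNilpotent P›
  obtain ⟨Q₀, hQ₀⟩ := exists_cl (P := P)
  obtain ⟨Q₁, -, hQ₁⟩ := exists_mcl hQ₀
  obtain ⟨Q, hQ, hmax⟩ := Set.exists_max_image {Q : Subgroup P | Cfsg.IsMinimalCentrallyLarge Q}
    (fun Q => pot n (centralizer (Q : Set P))) (Set.toFinite _) ⟨Q₁, hQ₁⟩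
  obtain ⟨hQl, hQc⟩ := cl_iff.mp hQ.1
  have main : ∀ B : Subgroup P, IsMulCommutative B → ((centralizer (Q : Set P) ⊔ B : Subgroup P) : Set P) =
      (centralizer (Q : Set P) : Set P) * (B : Set P) → B ≤ normalizer (Q : Set P) := by
    intro B hB hset x hxB
    by_contra hx
    haveI := hB
    obtain ⟨Q', hQ', hlt⟩ := replace_mcl hn hQ hset hxB hx
    exact (hmax Q' hQ').not_gt hlt
  refine ⟨Q, hQ, sSup_le fun A hA => ?_, sSup_le fun R hR => ?_⟩
  · have h := (cl_sup_maxAb hQ.1 hA).2.2.2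
    rw [inf_eq_right.mpr (SetLike.coe_subset_coe.mpr hQc), inf_eq_right.mpr hQc] at h
    exact main A hA.1 h
  · obtain ⟨hRl, hRc⟩ := cl_iff.mp hR.1
    obtain ⟨h1, -, -⟩ := mcl_pair hR hQ
    rw [← h1, inf_eq_right.mpr hRc]
    refine sup_le (inf_le_right.trans le_normalizer) (main _ ?_ (large_sup_inf hQl hRl).2.2.2.1)
    exact ⟨⟨fun a b => Subtype.ext (mem_centralizer_iff.mp b.2 a (hRc a.2))⟩⟩

/-- if a centrally large subgroup is abelian-sized, minimal ones are abelian -/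
theorem mcl_abelian_of_card {A : Subgroup P} (hA : A ∈ Cfsg.maxAbelianSubgroups P)
    (h : Nat.card A ^ 2 = Cfsg.maxCentralProduct P) {Q : Subgroup P} (hQ : Cfsg.IsMinimalCentrallyLarge Q) :
    IsMulCommutative Q := by
  haveI := hA.1
  have hself : A ⊓ centralizer (A : Set P) = A := inf_eq_left.mpr (maxAb_centralizer hA).ge
  have hcl : Cfsg.IsCentrallyLarge A := by
    rw [Cfsg.IsCentrallyLarge, card_center, hself, ← h, sq]
  obtain ⟨R, hRA, hR⟩ := exists_mcl hcl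
  have hRc : IsMulCommutative R :=
    ⟨⟨fun a b => Subtype.ext (congrArg Subtype.val (mul_comm' (⟨a, hRA a.2⟩ : A) ⟨b, hRA b.2⟩) :)⟩⟩
  exact ((mcl_abelian hR hRc Q).mp hQ).1

end Cfsg.Lib.CD
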